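import Groth.Agent.HSLib.Samuel

/-! Samuel limits of ideals primary to the maximal ideal. -/

set_option autoImplicit false
set_option linter.style.haveILetI false

universe u

open Polynomial Filter Topology
open Groth.Agent.HSLib (hs EvPoly MaxSupp)

namespace Groth.Agent.GrAlg95

theorem tendsto_eval_div (P : ℚ[X]) (d : ℕ) (h : P.natDegree ≤ d) :
    Tendsto (fun n : ℕ => ((P.eval (n : ℚ) : ℚ) : ℝ) / (n : ℝ) ^ d) atTop (𝓝 ((P.coeff d : ℚ) : ℝ)) := by
  have key : ∀ n : ℕ, ((P.eval (n : ℚ) : ℚ) : ℝ) / (n : ℝ) ^ d =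
      ∑ i ∈ Finset.range (d + 1), ((P.coeff i : ℚ) : ℝ) * ((n : ℝ) ^ i / (n : ℝ) ^ d) := by
    intro n
    rw [Polynomial.eval_eq_sum_range' (Nat.lt_succ_of_le h)]
    push_cast
    rw [Finset.sum_div]
    exact Finset.sum_congr rfl fun i _ => by ring
  rw [tendsto_congr key]
  have hsplit : ((P.coeff d : ℚ) : ℝ) = ∑ i ∈ Finset.range (d + 1), ((P.coeff i : ℚ) : ℝ) * (if i = d then 1 else 0) := by
    simp
  rw [hsplit]
  refine tendsto_finsetSum _ fun i hi => Tendsto.const_mul _ ?_
  rw [Finset.mem_range] at hi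
  split_ifs with hid
  · subst hid
    exact tendsto_const_nhds.congr' ((eventually_gt_atTop 0).mono fun n hn => by
      simp only []; rw [div_self]; positivity)
  · obtain ⟨e, rfl⟩ : ∃ e, d = i + (e + 1) := ⟨d - i - 1, by omega⟩
    have h0 := ((tendsto_pow_atTop (α := ℝ) (Nat.succ_ne_zero e)).comp
      tendsto_natCast_atTop_atTop).inv_tendsto_atTop
    refine h0.congr' ((eventually_gt_atTop 0).mono fun n hn => ?_)
    have : (n : ℝ) ≠ 0 := by positivity
    simp only [Pi.inv_apply, Function.comp_apply]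
    rw [pow_add]
    field_simp

variable {A : Type u} [CommRing A] [IsNoetherianRing A] [IsLocalRing A]

theorem maxSupp_of_pow_le (I : Ideal A) {N : ℕ} (hN : IsLocalRing.maximalIdeal A ^ N ≤ I)
    (M : Type u) [AddCommGroup M] [Module A M] : MaxSupp I M := fun p _ hp => by
  have h : IsLocalRing.maximalIdeal A ≤ p.asIdeal := p.2.le_of_pow_le (hN.trans hp)
  rw [le_antisymm (IsLocalRing.le_maximalIdeal p.2.ne_top) h]
  exact IsLocalRing.maximalIdeal.isMaximal A

theorem maxSupp_jacobson' (M : Type u) [AddCommGroup M] [Module A M] :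
    MaxSupp (IsLocalRing.maximalIdeal A) M :=
  maxSupp_of_pow_le _ (N := 1) (pow_one _).le M

theorem hs_mono {I J : Ideal A} {M : Type u} [AddCommGroup M] [Module A M] [Module.Finite A M] {s t : ℕ}
    (hI : MaxSupp I M) (h : I ^ s ≤ J ^ t) : hs J M t ≤ hs I M s :=
  ENat.toNat_le_toNat (Module.length_le_of_surjective (Submodule.factor (Submodule.smul_mono h le_rfl))
    (Submodule.factor_surjective _)) (HSLib.length_quot_ne_top hI le_rfl)

theorem hs_cast {I : Ideal A} {M : Type u} [AddCommGroup M] [Module A M] [Module.Finite A M] (hI : MaxSupp I M)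
    (t : ℕ) : ((hs I M t : ℕ) : ℕ∞) = Module.length A (M ⧸ (I ^ t • (⊤ : Submodule A M))) :=
  ENat.coe_toNat (HSLib.length_quot_ne_top hI le_rfl)

/-- The Hilbert–Samuel polynomial of an ideal primary to the maximal ideal. -/
theorem exists_samuel_poly (I : Ideal A) (hle : I ≤ IsLocalRing.maximalIdeal A) {N : ℕ}
    (hN : IsLocalRing.maximalIdeal A ^ N ≤ I) (M : Type u) [AddCommGroup M] [Module A M] [Module.Finite A M] :
    ∃ P : ℚ[X], EvPoly (hs I M) P ∧
      (Nontrivial M → (P.natDegree : WithBot ℕ∞) = Module.supportDim A M) ∧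
      (Subsingleton M → P = 0) := by
  obtain ⟨s, x, hx⟩ := Submodule.fg_iff_exists_fin_generating_family.1 (IsNoetherian.noetherian I)
  have hx' : Ideal.span (Set.range x) = I := hx
  obtain ⟨P, -, hP⟩ := HSLib.exists_poly x (M := M) (hx' ▸ maxSupp_of_pow_le I hN M)
  rw [hx'] at hP
  rcases subsingleton_or_nontrivial M with hM | hM
  · refine ⟨0, Eventually.of_forall fun t => ?_, fun h => absurd h (not_nontrivial_iff_subsingleton.2 hM), fun _ => rfl⟩
    simp [hs, Module.length_eq_zero]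
  refine ⟨P, hP, fun _ => ?_, fun h => absurd hM (not_nontrivial_iff_subsingleton.2 h)⟩
  obtain ⟨Q, hQ⟩ := HSLib.exists_poly_jacobson (A := A) M
  have hd := HSLib.supportDim_eq M Q hQ
  rw [IsLocalRing.ringJacobson_eq_maximalIdeal] at hQ
  rw [← hd]
  have h1 : Q.natDegree ≤ P.natDegree :=
    HSLib.natDegree_le_of_eventually_le hQ hP (Eventually.of_forall fun t =>
      hs_mono (maxSupp_of_pow_le I hN M) (Ideal.pow_right_mono hle t))
  have hQ' : EvPoly (fun t => hs (IsLocalRing.maximalIdeal A) M ((N + 1) * t))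
      (Q.comp (C ((N + 1 : ℕ) : ℚ) * X)) := by
    refine ((tendsto_id.const_mul_atTop' (Nat.succ_pos N)).eventually hQ).mono fun t ht => ?_
    simp only [id] at ht
    rw [ht]
    simp [Polynomial.eval_comp]
  have h2 : P.natDegree ≤ Q.natDegree := by
    refine (HSLib.natDegree_le_of_eventually_le hP hQ' (Eventually.of_forall fun t => ?_)).trans ?_
    · refine hs_mono (maxSupp_jacobson' M) ?_
      rw [pow_mul]
      exact Ideal.pow_right_mono ((Ideal.pow_le_pow_right (Nat.le_succ N)).trans hN) t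
    · rw [Polynomial.natDegree_comp]
      exact (Nat.mul_le_mul_left _ (Polynomial.natDegree_C_mul_le _ _)).trans (by rw [Polynomial.natDegree_X, mul_one])
  exact_mod_cast congrArg (fun n : ℕ => (n : ℕ∞)) (le_antisymm h2 h1)

/-- The Samuel limit exists, and is positive exactly in the top dimension. -/
theorem exists_samuel_limit (I : Ideal A) (hle : I ≤ IsLocalRing.maximalIdeal A) {N : ℕ}
    (hN : IsLocalRing.maximalIdeal A ^ N ≤ I) (M : Type u) [AddCommGroup M] [Module A M] [Module.Finite A M]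
    (d : ℕ) (hd : Module.supportDim A M ≤ d) :
    ∃ L : ℝ, Tendsto (fun n : ℕ => (hs I M n : ℝ) / (n : ℝ) ^ d) atTop (𝓝 L) ∧ 0 ≤ L ∧
      (Module.supportDim A M = d → 0 < L) := by
  obtain ⟨P, hP, hdeg, h0⟩ := exists_samuel_poly I hle hN M
  have hPd : P.natDegree ≤ d := by
    rcases subsingleton_or_nontrivial M with hM | hM
    · simp [h0 hM]
    · rw [← hdeg hM] at hd; exact_mod_cast hd
  have ht : Tendsto (fun n : ℕ => (hs I M n : ℝ) / (n : ℝ) ^ d) atTop (𝓝 ((P.coeff d : ℚ) : ℝ)) :=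
    (tendsto_eval_div P d hPd).congr' (hP.mono fun n hn => by rw [← hn]; norm_num)
  have hnn : (0 : ℝ) ≤ ((P.coeff d : ℚ) : ℝ) :=
    ge_of_tendsto ht (Eventually.of_forall fun n => by positivity)
  refine ⟨_, ht, hnn, fun hd' => lt_of_le_of_ne hnn fun h => ?_⟩
  haveI : Nontrivial M := (Module.supportDim_ne_bot_iff_nontrivial A M).1 (by rw [hd']; simp)
  have hnd : P.natDegree = d := by
    have := hdeg inferInstance
    rw [hd'] at this
    exact_mod_cast this
  have hc : P.coeff d = 0 := by exact_mod_cast h.symm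
  rw [← hnd] at hc
  have hP0 : P = 0 := Polynomial.leadingCoeff_eq_zero.1 hc
  obtain ⟨n, hn, hn1⟩ := (hP.and (eventually_ge_atTop 1)).exists
  have := HSLib.hs_pos (maxSupp_of_pow_le I hN M)
    (hle.trans (IsLocalRing.ringJacobson_eq_maximalIdeal (R := A)).ge) (M := M) hn1
  rw [hP0, Polynomial.eval_zero, Nat.cast_eq_zero] at hn
  omega

theorem tendsto_hs_zero (I : Ideal A) (hle : I ≤ IsLocalRing.maximalIdeal A) {N : ℕ}
    (hN : IsLocalRing.maximalIdeal A ^ N ≤ I) (M : Type u) [AddCommGroup M] [Module A M] [Module.Finite A M]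
    (d : ℕ) (hd : Module.supportDim A M + 1 ≤ d) :
    Tendsto (fun n : ℕ => (hs I M n : ℝ) / (n : ℝ) ^ d) atTop (𝓝 0) := by
  obtain ⟨P, hP, hdeg, h0⟩ := exists_samuel_poly I hle hN M
  have hPd : P.natDegree ≤ d ∧ P.coeff d = 0 := by
    rcases subsingleton_or_nontrivial M with hM | hM
    · simp [h0 hM]
    · rw [← hdeg hM] at hd
      have hlt : P.natDegree < d := by exact_mod_cast hd
      exact ⟨hlt.le, Polynomial.coeff_eq_zero_of_natDegree_lt hlt⟩
  have := (tendsto_eval_div P d hPd.1).congr' (f₂ := fun n : ℕ => (hs I M n : ℝ) / (n : ℝ) ^ d)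
    (hP.mono fun n hn => by rw [← hn]; norm_num)
  simpa [hPd.2] using this

theorem hs_self (I : Ideal A) (t : ℕ) : hs I A t = (Module.length A (A ⧸ I ^ t)).toNat := by
  have h : I ^ t • (⊤ : Submodule A A) = I ^ t := by rw [smul_eq_mul, Ideal.mul_top]
  rw [hs, (Submodule.quotEquivOfEq _ _ h).length_eq]

end Groth.Agent.GrAlg95
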