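import Mathlib

/-! Pieces of large degree of a graded algebra whose positive part is finitely generated. -/

set_option autoImplicit false

universe u

namespace Groth.Agent.GrAlg95

variable {R A : Type u} [CommRing R] [CommRing A] [Algebra R A] (𝒜 : ℤ → Submodule R A) [GradedAlgebra 𝒜]
  {p : ℕ} (f : Fin p → A) (deg : Fin p → ℤ)

theorem exists_comb_homog (hf : ∀ i, f i ∈ 𝒜 (deg i)) {m : ℤ} {b : A} (hb : b ∈ 𝒜 m)
    (hmem : b ∈ Ideal.span (Set.range f)) :
    ∃ c : Fin p → A, (∀ i, c i ∈ 𝒜 (m - deg i)) ∧ b = ∑ i, c i * f i := by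
  classical
  obtain ⟨c, hc⟩ := Ideal.mem_span_range_iff_exists_fun.1 hmem
  refine ⟨fun i => (DirectSum.decompose 𝒜 (c i) (m - deg i) : A), fun i => SetLike.coe_mem _, ?_⟩
  have key : ∀ i, (DirectSum.decompose 𝒜 (c i * f i) m : A) =
      (DirectSum.decompose 𝒜 (c i) (m - deg i) : A) * f i := fun i => by
    have := DirectSum.coe_decompose_mul_add_of_right_mem (i := m - deg i) 𝒜 (hf i) (a := c i)
    rwa [sub_add_cancel] at this
  calc b = (DirectSum.decompose 𝒜 b m : A) := (DirectSum.decompose_of_mem_same 𝒜 hb).symm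
    _ = GradedAlgebra.proj 𝒜 m (∑ i, c i * f i) := by rw [hc]; rfl
    _ = _ := by rw [map_sum]; exact Finset.sum_congr rfl fun i _ => key i

theorem mem_span_of_pos (hgen : Ideal.span {a : A | ∃ n : ℤ, 0 < n ∧ a ∈ 𝒜 n} = Ideal.span (Set.range f))
    {m : ℤ} (hm : 0 < m) {b : A} (hb : b ∈ 𝒜 m) : b ∈ Ideal.span (Set.range f) :=
  hgen ▸ Ideal.subset_span ⟨m, hm, hb⟩

theorem piece_eq (hdeg : ∀ i, 0 < deg i) (hf : ∀ i, f i ∈ 𝒜 (deg i))
    (hgen : Ideal.span {a : A | ∃ n : ℤ, 0 < n ∧ a ∈ 𝒜 n} = Ideal.span (Set.range f))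
    (d : ℤ) (hd : 0 < d) (hdvd : ∀ i, deg i ∣ d) (N : ℤ) (hN : d * p - ∑ i, deg i < N) :
    𝒜 N = 𝒜 d * 𝒜 (N - d) := by
  classical
  refine le_antisymm ?_ (Submodule.mul_le.2 fun a ha b hb => by
    have := SetLike.mul_mem_graded (A := 𝒜) ha hb
    rwa [add_sub_cancel] at this)
  intro x hx
  suffices key : ∀ (k : ℕ) (α : Fin p → ℕ) (b : A), (N - ∑ i, (α i : ℤ) * deg i).toNat ≤ k →
      b ∈ 𝒜 (N - ∑ i, (α i : ℤ) * deg i) → (∏ i, f i ^ α i) * b ∈ 𝒜 d * 𝒜 (N - d) by
    have := key N.toNat 0 x (by simp) (by simpa using hx)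
    simpa using this
  intro k
  induction k using Nat.strong_induction_on with
  | _ k ih =>
    intro α b hk hb
    by_cases hbig : ∃ i, d ≤ (α i : ℤ) * deg i
    · obtain ⟨i, hi⟩ := hbig
      obtain ⟨e, he⟩ := hdvd i
      have he0 : 0 < e := by have := hdeg i; nlinarith
      obtain ⟨e, rfl⟩ := Int.eq_ofNat_of_zero_le he0.le
      have hle : e ≤ α i := by
        rw [he, mul_comm (α i : ℤ)] at hi
        exact_mod_cast le_of_mul_le_mul_left hi (hdeg i)
      have hsplit : (∏ j, f j ^ α j) =
          f i ^ e * ∏ j, f j ^ (if j = i then α j - e else α j) := by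
        rw [← Finset.mul_prod_erase _ _ (Finset.mem_univ i),
          ← Finset.mul_prod_erase _ (fun j => f j ^ (if j = i then α j - e else α j)) (Finset.mem_univ i),
          if_pos rfl, ← mul_assoc, ← pow_add, Nat.add_sub_cancel' hle]
        congr 1
        exact Finset.prod_congr rfl fun j hj => by rw [if_neg (Finset.ne_of_mem_erase hj)]
      rw [hsplit, mul_assoc]
      refine Submodule.mul_mem_mul ?_ ?_
      · have := SetLike.pow_mem_graded e (hf i)
        rwa [nsmul_eq_mul, show ((e : ℕ) : ℤ) * deg i = d by rw [he, mul_comm]] at this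
      · have h1 : (∏ j, f j ^ (if j = i then α j - e else α j)) ∈
            𝒜 (∑ j, (if j = i then α j - e else α j) • deg j) :=
          SetLike.prod_mem_graded _ _ _ fun j _ => SetLike.pow_mem_graded _ (hf j)
        have h2 := SetLike.mul_mem_graded (A := 𝒜) h1 hb
        have hsum : (∑ j, (if j = i then α j - e else α j) • deg j) + (N - ∑ j, (α j : ℤ) * deg j) = N - d := by
          have : ∀ j, ((if j = i then α j - e else α j) • deg j : ℤ) =
              (α j : ℤ) * deg j - (if j = i then d else 0) := fun j => by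
            split_ifs with h
            · subst h; rw [nsmul_eq_mul, Nat.cast_sub hle, he]; ring
            · simp
          rw [Finset.sum_congr rfl (fun j _ => this j), Finset.sum_sub_distrib, Finset.sum_ite_eq']
          simp
        rwa [hsum] at h2
    · simp only [not_exists, not_le] at hbig
      have hwt : ∑ i, (α i : ℤ) * deg i ≤ d * p - ∑ i, deg i := by
        have : ∀ i, (α i : ℤ) * deg i + deg i ≤ d := fun i => by
          obtain ⟨e, he⟩ := hdvd i
          have := hbig i
          have hlt : (α i : ℤ) < e := by nlinarith [hdeg i]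
          nlinarith [hdeg i]
        have h := Finset.sum_le_sum (s := Finset.univ) fun i _ => this i
        rw [Finset.sum_add_distrib, Finset.sum_const, Finset.card_univ, Fintype.card_fin, nsmul_eq_mul] at h
        linarith
      have hm : 0 < N - ∑ i, (α i : ℤ) * deg i := by linarith
      obtain ⟨c, hc, rfl⟩ := exists_comb_homog 𝒜 f deg hf hb (mem_span_of_pos 𝒜 f hgen hm hb)
      rw [Finset.mul_sum]
      refine Submodule.sum_mem _ fun i _ => ?_
      rw [show (∏ j, f j ^ α j) * (c i * f i) = (∏ j, f j ^ (α + Pi.single i 1 : Fin p → ℕ) j) * c i by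
        rw [show (∏ j, f j ^ (α + Pi.single i 1 : Fin p → ℕ) j) = (∏ j, f j ^ α j) * f i by
          simp only [Pi.add_apply, pow_add, Finset.prod_mul_distrib]
          congr 1
          exact (Finset.prod_eq_single (f := fun x => f x ^ (Pi.single i 1 : Fin p → ℕ) x) i
            (fun j _ hj => by simp [hj]) (by simp)).trans (by simp)]
        ring]
      have hs : (∑ j, ((α + Pi.single i 1 : Fin p → ℕ) j : ℤ) * deg j) = (∑ j, (α j : ℤ) * deg j) + deg i := by
        simp [Pi.single_apply, add_mul, Finset.sum_add_distrib]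
      refine ih (N - (∑ j, ((α + Pi.single i 1 : Fin p → ℕ) j : ℤ) * deg j)).toNat ?_ _ _ le_rfl ?_
      · rw [hs]; have := hdeg i; omega
      · rw [hs, ← sub_sub]; exact hc i

end Groth.Agent.GrAlg95
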